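import Mathlib
import Cfsg.Agent.Lib.Helper77.KS12.LemXDefs
import Cfsg.Agent.Lib.Helper71.JC.JCFour
import Cfsg.Agent.Lib.Helper51.Basic

set_option autoImplicit false

/-!
# KS12 / S2945: package C (counting lemma) -- helper45

`lemCount : Cfsg.Agent.Lib.Helper77.KS12.LemCount`.
-/

namespace Cfsg.Agent.Lib.Helper45.KS12

open Cfsg.Agent.Lib.Helper71.JC

universe u

variable {G : Type u} [Group G]

/-- Decomposition in the join of two elementwise commuting subgroups. -/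
theorem exists_mul_of_mem_sup_comm {H K : Subgroup G} (hc : ∀ h ∈ H, ∀ k ∈ K, h * k = k * h)
    {x : G} (hx : x ∈ H ⊔ K) : ∃ h ∈ H, ∃ k ∈ K, x = h * k := by
  rw [Subgroup.sup_eq_closure] at hx
  induction hx using Subgroup.closure_induction with
  | mem y hy =>
    rcases hy with hy | hy
    · exact ⟨y, hy, 1, K.one_mem, (mul_one y).symm⟩
    · exact ⟨1, H.one_mem, y, hy, (one_mul y).symm⟩
  | one => exact ⟨1, H.one_mem, 1, K.one_mem, (mul_one 1).symm⟩
  | mul y z _ _ hy hz =>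
    obtain ⟨h1, hh1, k1, hk1, rfl⟩ := hy
    obtain ⟨h2, hh2, k2, hk2, rfl⟩ := hz
    refine ⟨h1 * h2, H.mul_mem hh1 hh2, k1 * k2, K.mul_mem hk1 hk2, ?_⟩
    have h := hc h2 hh2 k1 hk1
    calc h1 * k1 * (h2 * k2) = h1 * (k1 * h2) * k2 := by group
      _ = h1 * (h2 * k1) * k2 := by rw [h]
      _ = h1 * h2 * (k1 * k2) := by group
  | inv y _ hy =>
    obtain ⟨h1, hh1, k1, hk1, rfl⟩ := hy
    refine ⟨h1⁻¹, H.inv_mem hh1, k1⁻¹, K.inv_mem hk1, ?_⟩
    have h := hc h1 hh1 k1 hk1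
    calc (h1 * k1)⁻¹ = (k1 * h1)⁻¹ := by rw [h]
      _ = h1⁻¹ * k1⁻¹ := by group

/-- Independence of a family of four-groups `H i` inside an abelian subgroup, each with an element
`e i` acting fixed-point-freely on `H i` and centralizing the other `H j`. -/
theorem indep_aux [Finite G] {ι : Type*} (H : ι → Subgroup G) (e : ι → G) (V : Subgroup G)
    (hVc : ∀ x ∈ V, ∀ y ∈ V, x * y = y * x) (hHV : ∀ i, H i ≤ V)
    (hcard : ∀ i, Nat.card (H i) = 4)
    (hfp : ∀ i, ∀ w ∈ H i, e i * w = w * e i → w = 1)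
    (hcen : ∀ i j, i ≠ j → ∀ w ∈ H j, e i * w = w * e i) (S : Finset ι) :
    4 ^ S.card ≤ Nat.card (⨆ i ∈ S, H i : Subgroup G) ∧
    ∀ x ∈ (⨆ i ∈ S, H i : Subgroup G), (∀ i ∈ S, e i * x = x * e i) → x = 1 := by
  classical
  induction S using Finset.induction_on with
  | empty =>
    refine ⟨?_, ?_⟩
    · rw [Finset.card_empty, pow_zero]; exact Nat.card_pos
    · intro x hx _
      have h0 : (⨆ i ∈ (∅ : Finset ι), H i : Subgroup G) = ⊥ := by simp
      rw [h0, Subgroup.mem_bot] at hx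
      exact hx
  | insert j S hj ih =>
    obtain ⟨ih1, ih2⟩ := ih
    have hsup : (⨆ i ∈ insert j S, H i : Subgroup G) = H j ⊔ ⨆ i ∈ S, H i :=
      Finset.iSup_insert j S H
    have hXS_V : (⨆ i ∈ S, H i : Subgroup G) ≤ V := iSup₂_le fun i _ => hHV i
    have hXS_cen : ∀ y ∈ (⨆ i ∈ S, H i : Subgroup G), e j * y = y * e j := by
      intro y hy
      have hle : (⨆ i ∈ S, H i : Subgroup G) ≤ Subgroup.centralizer {e j} := by
        apply iSup₂_le
        intro i hi w hw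
        rw [Subgroup.mem_centralizer_iff]
        intro h hh
        rw [Set.mem_singleton_iff] at hh
        subst hh
        exact hcen j i (by rintro rfl; exact hj hi) w hw
      have h := hle hy
      rw [Subgroup.mem_centralizer_iff] at h
      exact h (e j) rfl
    have hinf : H j ⊓ (⨆ i ∈ S, H i : Subgroup G) = ⊥ := by
      rw [eq_bot_iff]
      intro x hx
      rw [Subgroup.mem_inf] at hx
      rw [Subgroup.mem_bot]
      exact hfp j x hx.1 (hXS_cen x hx.2)
    refine ⟨?_, ?_⟩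
    · rw [hsup, Finset.card_insert_of_notMem hj, pow_succ]
      have h := Cfsg.Agent.Lib.Helper51.card_mul_card_le_card_sup_mul_card_inf (H j)
        (⨆ i ∈ S, H i)
      rw [hinf, Subgroup.card_bot, mul_one, hcard j] at h
      calc 4 ^ S.card * 4 ≤ Nat.card (⨆ i ∈ S, H i : Subgroup G) * 4 :=
            Nat.mul_le_mul_right _ ih1
        _ = 4 * Nat.card (⨆ i ∈ S, H i : Subgroup G) := mul_comm _ _
        _ ≤ _ := h
    · intro x hx hxe
      rw [hsup] at hx
      obtain ⟨h, hh, y, hy, rfl⟩ := exists_mul_of_mem_sup_comm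
        (fun h hh k hk => hVc h (hHV j hh) k (hXS_V hk)) hx
      have hej := hxe j (Finset.mem_insert_self j S)
      have hy' := hXS_cen y hy
      have hh1 : h = 1 := by
        apply hfp j h hh
        have h3 : e j * h * y = h * e j * y := by
          calc e j * h * y = e j * (h * y) := by group
            _ = h * y * e j := hej
            _ = h * (y * e j) := by group
            _ = h * (e j * y) := by rw [hy']
            _ = h * e j * y := by group
        exact mul_right_cancel h3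
      subst hh1
      rw [one_mul]
      refine ih2 y hy (fun i hi => ?_)
      have h4 := hxe i (Finset.mem_insert_of_mem hi)
      rwa [one_mul] at h4

/-- Elements of `V` centralized by all `t d t⁻¹`, `t ∈ T`. -/
def cenSub (V T : Subgroup G) (d : G) : Subgroup G where
  carrier := {v | v ∈ V ∧ ∀ t ∈ T, (t * d * t⁻¹) * v = v * (t * d * t⁻¹)}
  mul_mem' := by
    rintro x y ⟨hx, hx'⟩ ⟨hy, hy'⟩
    refine ⟨V.mul_mem hx hy, fun t ht => ?_⟩
    calc t * d * t⁻¹ * (x * y) = (t * d * t⁻¹ * x) * y := by group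
      _ = (x * (t * d * t⁻¹)) * y := by rw [hx' t ht]
      _ = x * (t * d * t⁻¹ * y) := by group
      _ = x * (y * (t * d * t⁻¹)) := by rw [hy' t ht]
      _ = x * y * (t * d * t⁻¹) := by group
  one_mem' := ⟨V.one_mem, fun t _ => by rw [mul_one, one_mul]⟩
  inv_mem' := by
    rintro x ⟨hx, hx'⟩
    refine ⟨V.inv_mem hx, fun t ht => ?_⟩
    have h := hx' t ht
    calc t * d * t⁻¹ * x⁻¹ = x⁻¹ * (x * (t * d * t⁻¹)) * x⁻¹ := by group
      _ = x⁻¹ * (t * d * t⁻¹ * x) * x⁻¹ := by rw [h]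
      _ = x⁻¹ * (t * d * t⁻¹) := by group

theorem mem_cenSub {V T : Subgroup G} {d v : G} :
    v ∈ cenSub V T d ↔ v ∈ V ∧ ∀ t ∈ T, (t * d * t⁻¹) * v = v * (t * d * t⁻¹) := Iff.rfl

/-- If every element of `K` is `w * p` with `w ∈ W`, `p ∈ P`, and `K ∩ P = 1`, then `|K| ≤ |W|`. -/
theorem card_le_of_decomp [Finite G] {K W P : Subgroup G}
    (h1 : ∀ x ∈ K, ∃ w ∈ W, ∃ p ∈ P, x = w * p) (h2 : ∀ z ∈ K, z ∈ P → z = 1) :
    Nat.card K ≤ Nat.card W := by
  choose f hf1 g hg1 hfg using h1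
  apply Nat.card_le_card_of_injective (fun x : K => (⟨f x.1 x.2, hf1 x.1 x.2⟩ : W))
  intro x y hxy
  have h3 : f x.1 x.2 = f y.1 y.2 := congrArg Subtype.val hxy
  have hx := hfg x.1 x.2
  have hy := hfg y.1 y.2
  have hz : (x.1)⁻¹ * y.1 = (g x.1 x.2)⁻¹ * g y.1 y.2 := by
    have e1 : (x.1)⁻¹ * y.1 = (f x.1 x.2 * g x.1 x.2)⁻¹ * (f y.1 y.2 * g y.1 y.2) :=
      congrArg₂ (fun a b => a⁻¹ * b) hx hy
    rw [e1, h3]; group
  have h4 := h2 _ (K.mul_mem (K.inv_mem x.2) y.2)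
    (by rw [hz]; exact P.mul_mem (P.inv_mem (hg1 _ _)) (hg1 _ _))
  exact Subtype.ext (inv_mul_eq_one.mp h4)

theorem four_mul_lt_four_pow : ∀ n : ℕ, 2 ≤ n → 4 * n < 4 ^ n := by
  intro n hn
  induction n, hn using Nat.le_induction with
  | base => norm_num
  | succ n hn ih => rw [pow_succ]; linarith

theorem lemCount : Cfsg.Agent.Lib.Helper77.KS12.LemCount.{u} := by
  unfold Cfsg.Agent.Lib.Helper77.KS12.LemCount
  intro G _ _ A V W d hA hV hAV hWV hW4 hfpf hcen hmax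
  by_contra hcon
  obtain ⟨a0, ha0, ha0N⟩ := SetLike.not_le_iff_exists.mp hcon
  have hAc : ∀ x ∈ A, ∀ y ∈ A, x * y = y * x := fun x hx y hy => by
    have h1 := hA.1; exact setLike_mul_comm hx hy
  have hVc : ∀ x ∈ V, ∀ y ∈ V, x * y = y * x := fun x hx y hy => by
    have h1 := hV.1; exact setLike_mul_comm hx hy
  have hA2 : ∀ a ∈ A, a * a = 1 := fun a ha => by have h := hA.2 a ha; rwa [pow_two] at h
  have hW2 : ∀ w ∈ W, w * w = 1 := fun w hw => by
    have h := hV.2 w (hWV hw); rwa [pow_two] at h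
  have hWc : ∀ w ∈ W, ∀ w' ∈ W, w * w' = w' * w :=
    fun w hw w' hw' => hVc w (hWV hw) w' (hWV hw')
  -- conjugates of `W`
  have hWcV : ∀ a ∈ A, W.map (MulAut.conj a).toMonoidHom ≤ V := by
    intro a ha y hy
    rw [mem_conj_iff] at hy
    have h := conj_mem_of_mem_normalizer (hAV ha) (hWV hy)
    have e : a * (a⁻¹ * y * a) * a⁻¹ = y := by group
    rwa [e] at h
  have hfp' : ∀ a : G, ∀ w ∈ W.map (MulAut.conj a).toMonoidHom,
      (a * d * a⁻¹) * w = w * (a * d * a⁻¹) → w = 1 := by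
    intro a w hw hc
    rw [mem_conj_iff] at hw
    have h1 : d * (a⁻¹ * w * a) = (a⁻¹ * w * a) * d := by
      calc d * (a⁻¹ * w * a) = a⁻¹ * ((a * d * a⁻¹) * w) * a := by group
        _ = a⁻¹ * (w * (a * d * a⁻¹)) * a := by rw [hc]
        _ = (a⁻¹ * w * a) * d := by group
    have h2 := hfpf _ hw h1
    have e : w = a * (a⁻¹ * w * a) * a⁻¹ := by group
    rw [e, h2]; group
  have hWc_eq : ∀ a a' : G, a'⁻¹ * a ∈ Subgroup.normalizer (W : Set G) →
      W.map (MulAut.conj a).toMonoidHom = W.map (MulAut.conj a').toMonoidHom := by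
    intro a a' hc
    ext y
    rw [mem_conj_iff, mem_conj_iff]
    have h := Subgroup.mem_normalizer_iff.mp hc (a⁻¹ * y * a)
    have e : a'⁻¹ * a * (a⁻¹ * y * a) * (a'⁻¹ * a)⁻¹ = a'⁻¹ * y * a' := by group
    rw [e] at h
    exact h
  have hWc_ne : ∀ a a' : G,
      W.map (MulAut.conj a).toMonoidHom = W.map (MulAut.conj a').toMonoidHom →
      a'⁻¹ * a ∈ Subgroup.normalizer (W : Set G) := by
    intro a a' heq
    rw [Subgroup.mem_normalizer_iff]
    intro h
    have h1 : (a * h * a⁻¹ ∈ W.map (MulAut.conj a).toMonoidHom) ↔ h ∈ W := by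
      rw [mem_conj_iff]
      have e : a⁻¹ * (a * h * a⁻¹) * a = h := by group
      rw [e]
    have h2 : (a * h * a⁻¹ ∈ W.map (MulAut.conj a').toMonoidHom) ↔
        a'⁻¹ * a * h * (a'⁻¹ * a)⁻¹ ∈ W := by
      rw [mem_conj_iff]
      have e : a'⁻¹ * (a * h * a⁻¹) * a' = a'⁻¹ * a * h * (a'⁻¹ * a)⁻¹ := by group
      rw [e]
    rw [← h1, heq, h2]
  have hdich : ∀ a ∈ A, ∀ a' ∈ A,
      W.map (MulAut.conj a).toMonoidHom = W.map (MulAut.conj a').toMonoidHom ∨
      ∀ w ∈ W.map (MulAut.conj a').toMonoidHom, (a * d * a⁻¹) * w = w * (a * d * a⁻¹) := by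
    intro a ha a' ha'
    by_cases hc : a'⁻¹ * a ∈ Subgroup.normalizer (W : Set G)
    · exact Or.inl (hWc_eq a a' hc)
    · right
      intro w hw
      have h := hcen (a'⁻¹ * a) (A.mul_mem (A.inv_mem ha') ha) hc (a'⁻¹ * w * a')
        (mem_conj_iff.mp hw)
      calc a * d * a⁻¹ * w
          = a' * ((a'⁻¹ * a) * d * (a'⁻¹ * a)⁻¹ * (a'⁻¹ * w * a')) * a'⁻¹ := by group
        _ = a' * ((a'⁻¹ * w * a') * ((a'⁻¹ * a) * d * (a'⁻¹ * a)⁻¹)) * a'⁻¹ := by rw [h]
        _ = w * (a * d * a⁻¹) := by group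
  have hWc_self : ∀ a ∈ Subgroup.normalizer (W : Set G),
      W.map (MulAut.conj a).toMonoidHom = W := by
    intro a ha
    ext y
    rw [mem_conj_iff]
    have h := Subgroup.mem_normalizer_iff.mp (Subgroup.inv_mem _ ha) y
    rw [inv_inv] at h
    exact h.symm
  -- the subgroups `A1 = N_A(W)` and `A0 = C_A(W)`
  obtain ⟨A1, hA1⟩ : ∃ A1 : Subgroup G, A1 = A ⊓ Subgroup.normalizer (W : Set G) := ⟨_, rfl⟩
  obtain ⟨A0, hA0⟩ : ∃ A0 : Subgroup G, A0 = A ⊓ Subgroup.centralizer (W : Set G) := ⟨_, rfl⟩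
  have hA1mem : ∀ x, x ∈ A1 ↔ x ∈ A ∧ x ∈ Subgroup.normalizer (W : Set G) := by
    intro x; rw [hA1, Subgroup.mem_inf]
  have hA0mem : ∀ x, x ∈ A0 ↔ x ∈ A ∧ x ∈ Subgroup.centralizer (W : Set G) := by
    intro x; rw [hA0, Subgroup.mem_inf]
  have hA1A : A1 ≤ A := fun x hx => ((hA1mem x).mp hx).1
  have hA0A1 : A0 ≤ A1 := fun x hx => (hA1mem x).mpr
    ⟨((hA0mem x).mp hx).1, Subgroup.centralizer_le_normalizer _ ((hA0mem x).mp hx).2⟩
  have hcent_of : ∀ t : G, (∀ w ∈ W, t * w * t⁻¹ = w) →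
      t ∈ Subgroup.centralizer (W : Set G) := by
    intro t h
    rw [Subgroup.mem_centralizer_iff]
    intro w hw
    have h1 := h w hw
    calc w * t = (t * w * t⁻¹) * t := by rw [h1]
      _ = t * w := by group
  -- the index type: cosets of `A1` in `A`
  have hrepA : ∀ i : ↥A ⧸ A1.subgroupOf A, ((Quotient.out i : ↥A) : G) ∈ A :=
    fun i => (Quotient.out i).2
  have hrep_inj : ∀ i j : ↥A ⧸ A1.subgroupOf A,
      ((Quotient.out j : ↥A) : G)⁻¹ * ((Quotient.out i : ↥A) : G) ∈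
        Subgroup.normalizer (W : Set G) → i = j := by
    intro i j hN
    have h : (Quotient.out j : ↥A)⁻¹ * (Quotient.out i : ↥A) ∈ A1.subgroupOf A := by
      rw [Subgroup.mem_subgroupOf, hA1mem]
      exact ⟨A.mul_mem (A.inv_mem (hrepA j)) (hrepA i), hN⟩
    have h2 := QuotientGroup.eq.mpr h
    rw [QuotientGroup.out_eq', QuotientGroup.out_eq'] at h2
    exact h2.symm
  obtain ⟨H, hH⟩ : ∃ H : (↥A ⧸ A1.subgroupOf A) → Subgroup G,
      ∀ i, H i = W.map (MulAut.conj ((Quotient.out i : ↥A) : G)).toMonoidHom :=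
    ⟨_, fun _ => rfl⟩
  obtain ⟨e, he⟩ : ∃ e : (↥A ⧸ A1.subgroupOf A) → G,
      ∀ i, e i = ((Quotient.out i : ↥A) : G) * d * ((Quotient.out i : ↥A) : G)⁻¹ :=
    ⟨_, fun _ => rfl⟩
  letI : Fintype (↥A ⧸ A1.subgroupOf A) := Fintype.ofFinite _
  have hL := indep_aux H e V hVc (fun i => by rw [hH]; exact hWcV _ (hrepA i))
    (fun i => by rw [hH]; exact (card_conj W _).trans hW4)
    (fun i w hw => by rw [hH] at hw; rw [he]; exact hfp' _ w hw)
    (fun i j hij w hw => by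
      rw [hH] at hw; rw [he]
      rcases hdich _ (hrepA i) _ (hrepA j) with h | h
      · exact absurd (hrep_inj i j (hWc_ne _ _ h)) hij
      · exact h w hw)
    Finset.univ
  obtain ⟨hL1, hL2⟩ := hL
  obtain ⟨X, hX⟩ : ∃ X : Subgroup G,
      X = ⨆ i ∈ (Finset.univ : Finset (↥A ⧸ A1.subgroupOf A)), H i := ⟨_, rfl⟩
  rw [← hX] at hL1 hL2
  have hn : (Finset.univ : Finset (↥A ⧸ A1.subgroupOf A)).card = A1.relIndex A := by
    rw [Finset.card_univ, ← Nat.card_eq_fintype_card]; rfl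
  have hHX : ∀ i, H i ≤ X := fun i => by
    rw [hX]
    exact le_iSup₂ (f := fun i (_ : i ∈ (Finset.univ : Finset (↥A ⧸ A1.subgroupOf A))) => H i)
      i (Finset.mem_univ i)
  have hXV : X ≤ V := by
    rw [hX]; exact iSup₂_le fun i _ => by rw [hH]; exact hWcV _ (hrepA i)
  -- the subgroup `P`
  obtain ⟨P, hP⟩ : ∃ P : Subgroup G, P = cenSub V A1 d := ⟨_, rfl⟩
  have hPmem : ∀ v, v ∈ P ↔ v ∈ V ∧ ∀ t ∈ A1, (t * d * t⁻¹) * v = v * (t * d * t⁻¹) := by
    intro v; rw [hP]; exact mem_cenSub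
  have hPd : ∀ v ∈ P, d * v = v * d := by
    intro v hv
    have h := ((hPmem v).mp hv).2 1 A1.one_mem
    simpa using h
  have hPconj : ∀ s ∈ A1, ∀ v ∈ P, s * v * s⁻¹ ∈ P := by
    intro s hs v hv
    rw [hPmem] at hv ⊢
    refine ⟨conj_mem_of_mem_normalizer (hAV (hA1A hs)) hv.1, fun t ht => ?_⟩
    have h := hv.2 (s⁻¹ * t) (A1.mul_mem (A1.inv_mem hs) ht)
    calc t * d * t⁻¹ * (s * v * s⁻¹)
        = s * ((s⁻¹ * t) * d * (s⁻¹ * t)⁻¹ * v) * s⁻¹ := by group
      _ = s * (v * ((s⁻¹ * t) * d * (s⁻¹ * t)⁻¹)) * s⁻¹ := by rw [h]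
      _ = s * v * s⁻¹ * (t * d * t⁻¹) := by group
  have hXWP : X ≤ W ⊔ P := by
    rw [hX]
    apply iSup₂_le
    intro i _
    by_cases hi : ((Quotient.out i : ↥A) : G) ∈ Subgroup.normalizer (W : Set G)
    · rw [hH, hWc_self _ hi]; exact le_sup_left
    · refine le_trans ?_ le_sup_right
      intro y hy
      rw [hPmem]
      refine ⟨hXV (hHX i hy), fun t ht => ?_⟩
      have hy' : y ∈ W.map (MulAut.conj ((Quotient.out i : ↥A) : G)).toMonoidHom := by
        rw [← hH]; exact hy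
      rcases hdich t (hA1A ht) _ (hrepA i) with h | h
      · exfalso; apply hi
        have h1 := hWc_ne _ _ h
        have h2 := ((hA1mem t).mp ht).2
        have e' : ((Quotient.out i : ↥A) : G) =
            t * (((Quotient.out i : ↥A) : G)⁻¹ * t)⁻¹ := by group
        rw [e']; exact Subgroup.mul_mem _ h2 (Subgroup.inv_mem _ h1)
      · exact h y hy'
  -- `W`-components of elements of `A ⊓ X` are fixed by `A1`
  obtain ⟨Wt, hWt⟩ : ∃ Wt : Subgroup G, Wt = W ⊓ Subgroup.centralizer (A1 : Set G) :=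
    ⟨_, rfl⟩
  have hKdec : ∀ x ∈ A ⊓ X, ∃ w ∈ Wt, ∃ p ∈ P, x = w * p := by
    intro x hx
    rw [Subgroup.mem_inf] at hx
    obtain ⟨w, hw, p, hp, rfl⟩ := exists_mul_of_mem_sup_comm
      (fun h hh k hk => hVc h (hWV hh) k ((hPmem k).mp hk).1) (hXWP hx.2)
    refine ⟨w, ?_, p, hp, rfl⟩
    rw [hWt, Subgroup.mem_inf]
    refine ⟨hw, ?_⟩
    rw [Subgroup.mem_centralizer_iff]
    intro t ht
    have htA := hA1A ht
    have htN := ((hA1mem t).mp ht).2
    have h1 : t * (w * p) = (w * p) * t := hAc t htA _ hx.1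
    have hu : w⁻¹ * (t * w * t⁻¹) = p * (t * p * t⁻¹)⁻¹ := by
      have h2 : t * w * t⁻¹ * (t * p * t⁻¹) = w * p := by
        calc t * w * t⁻¹ * (t * p * t⁻¹) = (t * (w * p)) * t⁻¹ := by group
          _ = (w * p) * t * t⁻¹ := by rw [h1]
          _ = w * p := by group
      calc w⁻¹ * (t * w * t⁻¹)
          = w⁻¹ * (t * w * t⁻¹ * (t * p * t⁻¹)) * (t * p * t⁻¹)⁻¹ := by group
        _ = w⁻¹ * (w * p) * (t * p * t⁻¹)⁻¹ := by rw [h2]
        _ = p * (t * p * t⁻¹)⁻¹ := by group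
    have huW : w⁻¹ * (t * w * t⁻¹) ∈ W :=
      W.mul_mem (W.inv_mem hw) (conj_mem_of_mem_normalizer htN hw)
    have huP : w⁻¹ * (t * w * t⁻¹) ∈ P := by
      rw [hu]; exact P.mul_mem hp (P.inv_mem (hPconj t ht p hp))
    have hu1 := hfpf _ huW (hPd _ huP)
    have h3 : w = t * w * t⁻¹ := inv_mul_eq_one.mp hu1
    calc t * w = (t * w * t⁻¹) * t := by group
      _ = w * t := by rw [← h3]
  have hKP : ∀ z ∈ A ⊓ X, z ∈ P → z = 1 := by
    intro z hz hzP
    rw [Subgroup.mem_inf] at hz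
    apply hL2 z hz.2
    intro i _
    rw [he]
    have c1 : Commute z ((Quotient.out i : ↥A) : G) := hAc z hz.1 _ (hrepA i)
    have c2 : Commute z d := (hPd z hzP).symm
    exact (((c1.mul_right c2).mul_right c1.inv_right).eq).symm
  have hKW : Nat.card ↥(A ⊓ X) ≤ Nat.card Wt := card_le_of_decomp hKdec hKP
  -- `[A1 : A0] * |C_W(A1)| ≤ 4`
  have hd : A0.relIndex A1 * Nat.card Wt ≤ 4 := by
    by_cases hcase : A1 ≤ A0
    · rw [Subgroup.relIndex_eq_one.mpr hcase, one_mul, ← hW4]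
      exact Subgroup.card_le_of_le (by rw [hWt]; exact inf_le_left)
    · obtain ⟨t, ht1, ht0⟩ := SetLike.not_le_iff_exists.mp hcase
      have htA := hA1A ht1
      have htN := ((hA1mem t).mp ht1).2
      have hna : ¬ ∀ w ∈ W, t * w * t⁻¹ = w :=
        fun h => ht0 ((hA0mem t).mpr ⟨htA, hcent_of t h⟩)
      obtain ⟨u, hu, hu1, hufix, hfix, -⟩ := invol_struct hW4 hW2 hWc htN (hA2 t htA) hna
      have hWt2 : Nat.card Wt ≤ 2 := by
        have hsub : (Wt : Set G) ⊆ {1, u} := by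
          intro w hw
          have hw' : w ∈ Wt := hw
          rw [hWt, Subgroup.mem_inf, Subgroup.mem_centralizer_iff] at hw'
          have h1 := hw'.2 t ht1
          have h2 : t * w * t⁻¹ = w := by rw [h1]; group
          rcases hfix w hw'.1 h2 with h | h
          · rw [h]; exact Set.mem_insert _ _
          · rw [h]; exact Set.mem_insert_of_mem _ rfl
        calc Nat.card Wt = (Wt : Set G).ncard := Nat.card_coe_set_eq _
          _ ≤ ({1, u} : Set G).ncard := Set.ncard_le_ncard hsub (Set.toFinite _)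
          _ ≤ ({u} : Set G).ncard + 1 := Set.ncard_insert_le 1 {u}
          _ = 2 := by rw [Set.ncard_singleton]
      have hidx : A0.relIndex A1 = 2 := by
        show (A0.subgroupOf A1).index = 2
        rw [Subgroup.index_eq_two_iff]
        refine ⟨⟨t, ht1⟩, fun b => ?_⟩
        by_cases hb : (b : G) ∈ A0
        · refine Or.inr ⟨Subgroup.mem_subgroupOf.mpr hb, fun h => ht0 ?_⟩
          have h' : (b : G) * t ∈ A0 := Subgroup.mem_subgroupOf.mp h
          have e' : t = (b : G)⁻¹ * ((b : G) * t) := by group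
          rw [e']; exact A0.mul_mem (A0.inv_mem hb) h'
        · refine Or.inl ⟨Subgroup.mem_subgroupOf.mpr ?_,
            fun h => hb (Subgroup.mem_subgroupOf.mp h)⟩
          have hbA := hA1A b.2
          have hbN := ((hA1mem b).mp b.2).2
          have hnb : ¬ ∀ w ∈ W, (b : G) * w * (b : G)⁻¹ = w :=
            fun h => hb ((hA0mem _).mpr ⟨hbA, hcent_of _ h⟩)
          have h2 := two_invol hW4 hW2 hWc hbN htN (hA2 _ hbA) (hA2 t htA)
            (hAc _ hbA t htA) hnb hna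
          exact (hA0mem _).mpr ⟨A.mul_mem hbA htA, hcent_of _ h2⟩
      rw [hidx]; omega
  -- the elementary abelian subgroup `A0 ⊔ X`
  have hA0el : Cfsg.IsElementaryAbelian 2 A0 :=
    ⟨⟨⟨fun x y => Subtype.ext (hAc _ (hA1A (hA0A1 x.2)) _ (hA1A (hA0A1 y.2)))⟩⟩,
      fun a ha => hA.2 a (hA1A (hA0A1 ha))⟩
  have hXel : Cfsg.IsElementaryAbelian 2 X :=
    ⟨⟨⟨fun x y => Subtype.ext (hVc _ (hXV x.2) _ (hXV y.2))⟩⟩, fun a ha => hV.2 a (hXV ha)⟩
  have hcomm : ∀ b ∈ A0, ∀ w ∈ X, b * w = w * b := by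
    intro b hb w hw
    have hbA := hA1A (hA0A1 hb)
    have hbC := ((hA0mem b).mp hb).2
    have hle : X ≤ Subgroup.centralizer {b} := by
      rw [hX]
      apply iSup₂_le
      intro i _ y hy
      rw [hH, mem_conj_iff] at hy
      rw [Subgroup.mem_centralizer_iff]
      intro h hh
      rw [Set.mem_singleton_iff] at hh
      rw [hh]
      have c1 : Commute b ((Quotient.out i : ↥A) : G) := hAc b hbA _ (hrepA i)
      have c2 : Commute b (((Quotient.out i : ↥A) : G)⁻¹ * y * ((Quotient.out i : ↥A) : G)) :=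
        (Subgroup.mem_centralizer_iff.mp hbC _ hy).symm
      have c3 := (c1.mul_right c2).mul_right c1.inv_right
      have e' : ((Quotient.out i : ↥A) : G) *
          (((Quotient.out i : ↥A) : G)⁻¹ * y * ((Quotient.out i : ↥A) : G)) *
          ((Quotient.out i : ↥A) : G)⁻¹ = y := by group
      rw [e'] at c3
      exact c3.eq
    have h := hle hw
    rw [Subgroup.mem_centralizer_iff] at h
    exact h b rfl
  have hB := elemAb_sup hA0el hXel hcomm
  have hBle : A0 ⊔ X ≤ A ⊔ V := sup_le_sup (hA0A1.trans hA1A) hXV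
  have hBcard := hmax _ hBle hB
  have h51 := Cfsg.Agent.Lib.Helper51.card_mul_card_le_card_sup_mul_card_inf A0 X
  have hK : Nat.card ↥(A0 ⊓ X) ≤ Nat.card ↥(A ⊓ X) :=
    Subgroup.card_le_of_le (inf_le_inf_right X (hA0A1.trans hA1A))
  have h_A : A1.relIndex A * Nat.card A1 = Nat.card A := by
    have h := Cfsg.Agent.Lib.Helper51.relIndex_mul_card_inf A1 A
    rwa [inf_of_le_left hA1A] at h
  have h_A1 : A0.relIndex A1 * Nat.card A0 = Nat.card A1 := by
    have h := Cfsg.Agent.Lib.Helper51.relIndex_mul_card_inf A0 A1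
    rwa [inf_of_le_left hA0A1] at h
  have hn1 : A1.relIndex A ≠ 1 := by
    intro h
    have h' := Subgroup.relIndex_eq_one.mp h
    exact ha0N ((hA1mem a0).mp (h' ha0)).2
  have hn0 : A1.relIndex A ≠ 0 := by
    intro h
    rw [h, zero_mul] at h_A
    exact (Nat.card_pos (α := A)).ne' h_A.symm
  have hn2 : 2 ≤ A1.relIndex A := by omega
  have ha0pos : 0 < Nat.card A0 := Nat.card_pos
  rw [hn] at hL1
  have s1 : Nat.card A0 * 4 ^ A1.relIndex A ≤ Nat.card A0 * Nat.card X :=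
    Nat.mul_le_mul_left _ hL1
  have s2 : Nat.card A0 * Nat.card X ≤ Nat.card A * Nat.card Wt :=
    h51.trans (Nat.mul_le_mul hBcard (hK.trans hKW))
  have s3 : Nat.card A * Nat.card Wt =
      A1.relIndex A * Nat.card A0 * (A0.relIndex A1 * Nat.card Wt) := by
    rw [← h_A, ← h_A1]; ring
  have s4 : A1.relIndex A * Nat.card A0 * (A0.relIndex A1 * Nat.card Wt) ≤
      A1.relIndex A * Nat.card A0 * 4 := Nat.mul_le_mul_left _ hd
  have s5 : Nat.card A0 * 4 ^ A1.relIndex A ≤ Nat.card A0 * (4 * A1.relIndex A) := by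
    calc Nat.card A0 * 4 ^ A1.relIndex A ≤ Nat.card A * Nat.card Wt := s1.trans s2
      _ = A1.relIndex A * Nat.card A0 * (A0.relIndex A1 * Nat.card Wt) := s3
      _ ≤ A1.relIndex A * Nat.card A0 * 4 := s4
      _ = Nat.card A0 * (4 * A1.relIndex A) := by ring
  have s6 := Nat.le_of_mul_le_mul_left s5 ha0pos
  exact absurd s6 (not_le.mpr (four_mul_lt_four_pow _ hn2))

end Cfsg.Agent.Lib.Helper45.KS12
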